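import Mathlib

/-!
Algebras whose structure constants are polynomials in a parameter: the dimension of the centre is
the same at all parameters at which the trace form is nondegenerate. The proof uses the Casimir
operator, whose image is then the centre, and lower semicontinuity of the rank.
-/
set_option autoImplicit false

namespace Cfsg.Agent.Chevalley.Hecke

open Finset Matrix

variable {W : Type*} [Fintype W] [DecidableEq W]

section Ring

variable {R : Type*} [CommRing R]

/-- Left multiplication by a basis element. -/
def lMat (c : W → W → W → R) (u : W) : Matrix W W R := fun w v => c u v w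

/-- The trace form. -/
def formMat (c : W → W → W → R) : Matrix W W R := fun u v => (lMat c u * lMat c v).trace

/-- The commutators with the basis elements. -/
def commMat (c : W → W → W → R) : Matrix (W × W) W R := fun p u => c u p.1 p.2 - c p.1 u p.2

/-- The Casimir operator of the trace form, scaled by its determinant. -/
def casMat (c : W → W → W → R) : Matrix W W R :=
  fun w x => ∑ i, ∑ j, (formMat c).adjugate i j * ∑ a, c i x a * c a j w

/-- Associativity and the unit `e`. -/
structure IsStruct (c : W → W → W → R) (e : W) : Prop where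
  assoc : ∀ u v x w, ∑ a, c u v a * c a x w = ∑ a, c v x a * c u a w
  left : ∀ v w, c e v w = if v = w then 1 else 0
  right : ∀ v w, c v e w = if v = w then 1 else 0

omit [DecidableEq W] in
theorem formMat_symm (c : W → W → W → R) (u v : W) : formMat c u v = formMat c v u :=
  trace_mul_comm _ _

variable {c : W → W → W → R} {e : W}

theorem lMat_mul (h : IsStruct c e) (u v : W) :
    lMat c u * lMat c v = ∑ a, c u v a • lMat c a := by
  ext w x
  simp only [Matrix.mul_apply, Matrix.sum_apply, Matrix.smul_apply, smul_eq_mul, lMat]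
  rw [h.assoc]
  exact sum_congr rfl fun a _ => mul_comm _ _

theorem lMat_one (h : IsStruct c e) : lMat c e = 1 := by
  ext w v
  simp only [lMat, h.left, Matrix.one_apply, eq_comm]

theorem lMat_inj (h : IsStruct c e) {f g : W → R}
    (heq : ∑ a, f a • lMat c a = ∑ a, g a • lMat c a) : f = g := by
  funext w
  have := congrFun (congrFun heq w) e
  simpa [Matrix.sum_apply, lMat, h.right] using this

theorem commMat_mulVec (h : IsStruct c e) (f : W → R) (v : W) :
    (∑ a, f a • lMat c a) * lMat c v - lMat c v * (∑ a, f a • lMat c a)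
      = ∑ w, (commMat c *ᵥ f) (v, w) • lMat c w := by
  simp only [sum_mul, mul_sum, smul_mul_assoc, mul_smul_comm, lMat_mul h, smul_sum,
    ← sum_sub_distrib, smul_smul, ← sub_smul]
  rw [sum_comm]
  refine sum_congr rfl fun w _ => ?_
  rw [← sum_smul]
  congr 1
  simp only [Matrix.mulVec, dotProduct, commMat]
  exact sum_congr rfl fun a _ => by ring

theorem casMat_mulVec (h : IsStruct c e) (f : W → R) :
    ∑ w, (casMat c *ᵥ f) w • lMat c w
      = ∑ i, ∑ j, (formMat c).adjugate i j • (lMat c i * (∑ a, f a • lMat c a) * lMat c j) := by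
  have h1 : ∀ i j, lMat c i * (∑ a, f a • lMat c a) * lMat c j
      = ∑ w, (∑ x, f x * ∑ a, c i x a * c a j w) • lMat c w := by
    intro i j
    simp only [mul_sum, sum_mul, smul_mul_assoc, mul_smul_comm, lMat_mul h, smul_sum, smul_smul,
      sum_smul]
    conv_rhs => rw [sum_comm]
    exact sum_congr rfl fun x _ => sum_comm.trans
      (sum_congr rfl fun _ _ => sum_congr rfl fun _ _ => by rw [mul_assoc])
  simp only [h1, smul_sum, smul_smul]
  conv_rhs => enter [2, i]; rw [sum_comm]
  conv_rhs => rw [sum_comm]
  refine sum_congr rfl fun w _ => ?_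
  simp only [← sum_smul]
  congr 1
  simp only [Matrix.mulVec, dotProduct, casMat, sum_mul]
  rw [sum_comm]
  refine sum_congr rfl fun i _ => ?_
  rw [sum_comm]
  refine sum_congr rfl fun j _ => ?_
  rw [mul_sum]
  exact sum_congr rfl fun x _ => by ring

omit [Fintype W] [DecidableEq W] in
theorem map_lMat {S : Type*} [CommRing S] (φ : R →+* S) (c : W → W → W → R) (u : W) :
    (lMat c u).map φ = lMat (fun u v w => φ (c u v w)) u := rfl

omit [DecidableEq W] in
theorem map_formMat {S : Type*} [CommRing S] (φ : R →+* S) (c : W → W → W → R) :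
    (formMat c).map φ = formMat (fun u v w => φ (c u v w)) := by
  ext u v
  simp [formMat, Matrix.trace, Matrix.mul_apply, lMat, map_sum]

omit [Fintype W] [DecidableEq W] in
theorem map_commMat {S : Type*} [CommRing S] (φ : R →+* S) (c : W → W → W → R) :
    (commMat c).map φ = commMat (fun u v w => φ (c u v w)) := by
  ext p u
  simp [commMat]

theorem map_casMat {S : Type*} [CommRing S] (φ : R →+* S) (c : W → W → W → R) :
    (casMat c).map φ = casMat (fun u v w => φ (c u v w)) := by
  ext w x
  have h := φ.map_adjugate (formMat c)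
  rw [RingHom.mapMatrix_apply, RingHom.mapMatrix_apply, map_formMat] at h
  simp [casMat, map_sum, ← h]

end Ring

section Field

variable {K : Type*} [Field K] {c : W → W → W → K} {e : W}

/-- The centre is the image of the Casimir operator. -/
theorem rank_comm_add_rank_cas (h : IsStruct c e) (hdet : (formMat c).det ≠ 0) :
    (commMat c).rank + (casMat c).rank = Fintype.card W := by
  set G := formMat c with hG
  set d := G.det with hd
  have hGsymm : Gᵀ = G := by ext u v; exact formMat_symm c v u
  have hAsymm : ∀ i j, G.adjugate i j = G.adjugate j i := fun i j => by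
    conv_lhs => rw [← hGsymm, ← adjugate_transpose]
    rfl
  -- the Casimir tensor commutes with the basis elements
  have key : ∀ y i l, ∑ j, G.adjugate i j * c j y l = ∑ j, c y j i * G.adjugate j l := by
    intro y i l
    let α : Matrix W W K := fun k j => c y j k
    let β : Matrix W W K := fun a b => c a y b
    have hαβ : G * α = β * G := by
      ext a b
      show ∑ k, G a k * c y b k = ∑ k, c a y k * G k b
      have h1 : (lMat c a * (lMat c y * lMat c b)).trace = ∑ k, G a k * c y b k := by
        simp only [lMat_mul h y b, mul_sum, mul_smul_comm, trace_sum, trace_smul, smul_eq_mul,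
          hG, formMat]
        exact sum_congr rfl fun k _ => mul_comm _ _
      have h2 : (lMat c a * lMat c y * lMat c b).trace = ∑ k, c a y k * G k b := by
        simp only [lMat_mul h a y, sum_mul, smul_mul_assoc, trace_sum, trace_smul, smul_eq_mul,
          hG, formMat]
      rw [← h1, ← h2, mul_assoc]
    have h3 : d • (α * G.adjugate) = d • (G.adjugate * β) := by
      have := congrArg (fun X => G.adjugate * X * G.adjugate) hαβ
      simp only [← mul_assoc, adjugate_mul] at this
      simp only [mul_assoc, mul_adjugate] at this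
      simpa [hd, smul_mul_assoc, mul_smul_comm, mul_assoc] using this
    have h4 := congrFun (congrFun (smul_right_injective _ hdet h3) i) l
    rw [Matrix.mul_apply, Matrix.mul_apply] at h4
    exact h4.symm
  have hcomm : ∀ f : W → K, commMat c *ᵥ (casMat c *ᵥ f) = 0 := by
    intro f
    funext ⟨v, w⟩
    have h1 := commMat_mulVec h (casMat c *ᵥ f) v
    set X := ∑ a, f a • lMat c a
    rw [casMat_mulVec h f] at h1
    have h2 : (∑ i, ∑ j, G.adjugate i j • (lMat c i * X * lMat c j)) * lMat c v
        = lMat c v * ∑ i, ∑ j, G.adjugate i j • (lMat c i * X * lMat c j) := by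
      simp only [sum_mul, mul_sum, smul_mul_assoc, mul_smul_comm, ← mul_assoc, lMat_mul h v]
      simp only [mul_assoc, lMat_mul h _ v, mul_sum, mul_smul_comm, smul_sum, smul_smul]
      have e1 : (∑ i, ∑ j, ∑ a, (G.adjugate i j * c j v a) • (lMat c i * (X * lMat c a)))
          = ∑ i, ∑ a, (∑ j, G.adjugate i j * c j v a) • (lMat c i * (X * lMat c a)) :=
        sum_congr rfl fun i _ => by rw [sum_comm]; simp only [sum_smul]
      rw [e1]
      simp only [key, sum_smul]
      have e2 : ∀ g : W → W → W → Matrix W W K,
          ∑ i, ∑ a, ∑ j, g i a j = ∑ j, ∑ a, ∑ i, g i a j := by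
        intro g
        rw [sum_comm]
        conv_rhs => rw [sum_comm]
        exact sum_congr rfl fun a _ => sum_comm
      rw [e2]
      exact sum_congr rfl fun j _ => sum_congr rfl fun a _ => sum_congr rfl fun i _ => by
        rw [mul_comm]
    rw [← hG, h2, sub_self] at h1
    have h3 : (fun w => (commMat c *ᵥ (casMat c *ᵥ f)) (v, w)) = 0 :=
      lMat_inj h (by rw [← h1]; simp)
    exact congrFun h3 w
  have hcen : ∀ f : W → K, commMat c *ᵥ f = 0 → casMat c *ᵥ f = d • f := by
    intro f hf
    set X := ∑ a, f a • lMat c a with hX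
    have hXc : ∀ v, X * lMat c v = lMat c v * X := fun v =>
      sub_eq_zero.1 (by rw [commMat_mulVec h f v, hf]; simp)
    -- the Casimir element is `d`
    set κ : W → K := fun a => ∑ i, ∑ j, G.adjugate i j * c i j a with hκ
    have hκ' : ∑ a, κ a • lMat c a = ∑ i, ∑ j, G.adjugate i j • (lMat c i * lMat c j) := by
      simp only [hκ, lMat_mul h, smul_sum, smul_smul, sum_smul]
      rw [sum_comm]
      exact sum_congr rfl fun i _ => sum_comm
    have hκ2 : κ = fun a => if e = a then d else 0 := by
      have h5 : ∀ y, (G *ᵥ κ) y = d * G y e := by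
        intro y
        have h6 : (lMat c y * ∑ a, κ a • lMat c a).trace = (G *ᵥ κ) y := by
          simp only [mul_sum, mul_smul_comm, trace_sum, trace_smul, smul_eq_mul, hG, formMat,
            Matrix.mulVec, dotProduct]
          exact sum_congr rfl fun k _ => mul_comm _ _
        rw [← h6, hκ']
        simp only [mul_sum, mul_smul_comm, trace_sum, trace_smul, smul_eq_mul, ← mul_assoc,
          lMat_mul h y, sum_mul, smul_mul_assoc]
        have h7 : ∀ k, ∑ j, G k j * G.adjugate j k = d := fun k => by
          have := congrFun (congrFun (mul_adjugate G) k) k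
          simpa [Matrix.mul_apply] using this
        calc ∑ i, ∑ j, ∑ k, G.adjugate i j * c y i k * (lMat c k * lMat c j).trace
            = ∑ i, ∑ k, c y i k * ∑ j, G k j * G.adjugate j i := by
              refine sum_congr rfl fun i _ => ?_
              rw [sum_comm]
              refine sum_congr rfl fun k _ => ?_
              rw [mul_sum]
              exact sum_congr rfl fun j _ => by rw [hAsymm i j, hG, formMat]; ring
          _ = ∑ i, c y i i * d := by
              refine sum_congr rfl fun i _ => ?_
              rw [Fintype.sum_eq_single i fun k hk => by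
                have := congrFun (congrFun (mul_adjugate G) k) i
                rw [Matrix.smul_apply, Matrix.one_apply_ne hk, smul_zero, Matrix.mul_apply] at this
                rw [this, mul_zero], h7]
          _ = d * G y e := by
              simp [hG, formMat, lMat_one h, Matrix.trace, lMat, mul_sum, mul_comm]
      have h8 : G *ᵥ (κ - fun a => if e = a then d else 0) = 0 := by
        funext y
        rw [Matrix.mulVec_sub, Pi.sub_apply, h5]
        simp [Matrix.mulVec, dotProduct, mul_comm]
      exact sub_eq_zero.1 (eq_zero_of_mulVec_eq_zero hdet h8)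
    have h9 : ∑ w, (casMat c *ᵥ f) w • lMat c w = ∑ w, (d • f) w • lMat c w := by
      rw [casMat_mulVec h f]
      simp only [mul_assoc, hXc, ← hX]
      simp only [← mul_assoc, ← hG]
      rw [show (∑ i, ∑ j, G.adjugate i j • (lMat c i * lMat c j * X))
        = (∑ i, ∑ j, G.adjugate i j • (lMat c i * lMat c j)) * X by
          simp only [sum_mul, smul_mul_assoc], ← hκ', hκ2]
      simp [ite_smul, lMat_one h, hX, smul_sum, smul_smul]
    exact lMat_inj h h9
  have hrange : LinearMap.range (casMat c).mulVecLin = LinearMap.ker (commMat c).mulVecLin := by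
    refine le_antisymm ?_ fun f hf => ?_
    · rintro _ ⟨f, rfl⟩; exact hcomm f
    · refine ⟨d⁻¹ • f, ?_⟩
      rw [map_smul, Matrix.mulVecLin_apply, hcen f hf, inv_smul_smul₀ hdet]
  rw [Matrix.rank, Matrix.rank, hrange, LinearMap.finrank_range_add_finrank_ker]
  simp

omit [DecidableEq W] in
theorem exists_minor {m n : Type*} [Fintype m] [Fintype n] (A : Matrix m n K) :
    ∃ (L : Matrix (Fin A.rank) m K) (R : Matrix n (Fin A.rank) K), L * A * R = 1 := by
  classical
  let b := Module.finBasisOfFinrankEq K (LinearMap.range A.mulVecLin) (n := A.rank) rfl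
  choose v hv using fun i => (b i).2
  let ι : (Fin A.rank → K) →ₗ[K] (m → K) :=
    (LinearMap.range A.mulVecLin).subtype ∘ₗ b.equivFun.symm.toLinearMap
  obtain ⟨π, hπ⟩ := ι.exists_leftInverse_of_injective (LinearMap.ker_eq_bot.2
    (Subtype.val_injective.comp b.equivFun.symm.injective))
  refine ⟨LinearMap.toMatrix' π, (Matrix.of fun a i => v i a), ?_⟩
  refine (Matrix.mul_assoc _ _ _).trans ?_
  ext i j
  have h1 : (A * (Matrix.of fun a i => v i a)).col j = ι (Pi.single j 1) := by
    funext a
    have hb : b.equivFun.symm (Pi.single j 1) = b j := by simp [Pi.single_apply]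
    simp only [ι, LinearMap.comp_apply, LinearEquiv.coe_coe, Submodule.subtype_apply, hb, ← hv]
    rfl
  have h2 : (LinearMap.toMatrix' π *ᵥ (A * (Matrix.of fun a i => v i a)).col j) i
      = (1 : Matrix (Fin A.rank) (Fin A.rank) K) i j := by
    rw [h1, LinearMap.toMatrix'_mulVec, ← LinearMap.comp_apply, hπ]
    simp [Pi.single_apply, Matrix.one_apply]
  exact h2

end Field

open Polynomial

/-- The rank is lower semicontinuous. -/
theorem exists_rank_poly {m n : Type*} [Fintype m] [Fintype n] (A : Matrix m n ℂ[X]) (t : ℂ) :
    ∃ p : ℂ[X], p ≠ 0 ∧ ∀ s, p.eval s ≠ 0 →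
      (A.map (evalRingHom t)).rank ≤ (A.map (evalRingHom s)).rank := by
  classical
  obtain ⟨L, R, h⟩ := exists_minor (A.map (evalRingHom t))
  have hrle : ∀ B : Matrix m n ℂ, (L * B * R).det ≠ 0 →
      (A.map (evalRingHom t)).rank ≤ B.rank := by
    intro B hB
    have h1 := Matrix.rank_of_isUnit _ ((Matrix.isUnit_iff_isUnit_det _).2 (isUnit_iff_ne_zero.2 hB))
    rw [Fintype.card_fin] at h1
    exact h1.symm.le.trans ((Matrix.rank_mul_le_left _ _).trans (Matrix.rank_mul_le_right _ _))
  generalize (A.map (evalRingHom t)).rank = r at L R h hrle ⊢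
  refine ⟨(L.map Polynomial.C * A * R.map Polynomial.C).det, fun h0 => ?_, fun s hs => ?_⟩
  · have := congrArg (Polynomial.eval t) h0
    rw [← coe_evalRingHom, RingHom.map_det, RingHom.mapMatrix_apply, Matrix.map_mul,
      Matrix.map_mul, Matrix.map_map, Matrix.map_map] at this
    rw [coe_evalRingHom] at h
    simp [Function.comp_def, h] at this
  · rw [← coe_evalRingHom, RingHom.map_det, RingHom.mapMatrix_apply, Matrix.map_mul,
      Matrix.map_mul, Matrix.map_map, Matrix.map_map] at hs
    simp only [Function.comp_def, eval_C, coe_evalRingHom, Matrix.map_id'] at hs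
    exact hrle _ hs

/-- A structure that holds at infinitely many parameters holds at all of them. -/
theorem isStruct_all {P : W → W → W → ℂ[X]} {e : W} {T : Set ℂ} (hT : T.Infinite)
    (h : ∀ t ∈ T, IsStruct (fun u v w => (P u v w).eval t) e) (s : ℂ) :
    IsStruct (fun u v w => (P u v w).eval s) e := by
  have key : ∀ p q : ℂ[X], (∀ t ∈ T, p.eval t = q.eval t) → p.eval s = q.eval s := by
    intro p q hpq
    rw [eq_of_infinite_eval_eq p q (hT.mono hpq)]
  constructor
  · intro u v x w
    simpa [eval_finsetSum] using key (∑ a, P u v a * P a x w) (∑ a, P v x a * P u a w)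
      fun t ht => by simpa [eval_finsetSum] using (h t ht).assoc u v x w
  · intro v w
    simpa [apply_ite (fun p : ℂ[X] => p.eval s)] using key (P e v w) (if v = w then 1 else 0)
      fun t ht => by simpa [apply_ite (fun p : ℂ[X] => p.eval t)] using (h t ht).left v w
  · intro v w
    simpa [apply_ite (fun p : ℂ[X] => p.eval s)] using key (P v e w) (if v = w then 1 else 0)
      fun t ht => by simpa [apply_ite (fun p : ℂ[X] => p.eval t)] using (h t ht).right v w

/-- The dimension of the centre does not depend on a semisimple parameter. -/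
theorem rank_comm_eq {P : W → W → W → ℂ[X]} {e : W}
    (h : ∀ t, IsStruct (fun u v w => (P u v w).eval t) e) {t₀ t₁ : ℂ}
    (h₀ : (formMat fun u v w => (P u v w).eval t₀).det ≠ 0)
    (h₁ : (formMat fun u v w => (P u v w).eval t₁).det ≠ 0) :
    (commMat fun u v w => (P u v w).eval t₀).rank
      = (commMat fun u v w => (P u v w).eval t₁).rank := by
  have key : ∀ t, (formMat fun u v w => (P u v w).eval t).det ≠ 0 → ∃ p : ℂ[X], p ≠ 0 ∧
      ∀ s, p.eval s ≠ 0 → (formMat fun u v w => (P u v w).eval s).det ≠ 0 ∧
        (commMat fun u v w => (P u v w).eval t).rank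
          = (commMat fun u v w => (P u v w).eval s).rank := by
    intro t ht
    have hdet : ∀ s, (formMat P).det.eval s = (formMat fun u v w => (P u v w).eval s).det := by
      intro s
      rw [← coe_evalRingHom, RingHom.map_det, RingHom.mapMatrix_apply, map_formMat]
    obtain ⟨p₁, hp₁, h1⟩ := exists_rank_poly (commMat P) t
    obtain ⟨p₂, hp₂, h2⟩ := exists_rank_poly (casMat P) t
    refine ⟨p₁ * p₂ * (formMat P).det, mul_ne_zero (mul_ne_zero hp₁ hp₂) fun h0 => ?_,
      fun s hs => ?_⟩
    · rw [← hdet, h0, eval_zero] at ht
      exact ht rfl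
    simp only [eval_mul, ne_eq, mul_eq_zero, not_or] at hs
    refine ⟨hdet s ▸ hs.2, ?_⟩
    have a := h1 s hs.1.1
    have b := h2 s hs.1.2
    rw [map_commMat, map_commMat] at a
    rw [map_casMat, map_casMat] at b
    simp only [coe_evalRingHom] at a b
    have := rank_comm_add_rank_cas (h t) ht
    have := rank_comm_add_rank_cas (h s) (hdet s ▸ hs.2)
    omega
  obtain ⟨p, hp, hp'⟩ := key t₀ h₀
  obtain ⟨q, hq, hq'⟩ := key t₁ h₁
  obtain ⟨s, hs⟩ : ∃ s, (p * q).eval s ≠ 0 := by
    by_contra hcon
    exact mul_ne_zero hp hq (zero_of_eval_zero _ fun s => not_not.1 fun h => hcon ⟨s, h⟩)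
  rw [eval_mul, mul_ne_zero_iff] at hs
  rw [(hp' s hs.1).2, (hq' s hs.2).2]

end Cfsg.Agent.Chevalley.Hecke
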