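import Cfsg.Agent.Chevalley.Hecke.Center
import Cfsg.Agent.Chevalley.Hecke.Deform
import Cfsg.Agent.H37.RootSys.Bruhat

/-!
The Hecke algebra of a split Tits system over a finite field: its structure constants in the basis
of double cosets are universal polynomials in the order of the field, and its trace form is
nondegenerate.
-/
set_option autoImplicit false

namespace Cfsg.Agent.Chevalley.Hecke

open Cfsg.Lie Cfsg.Agent.H37 Cfsg.Agent.H37.Weyl Finset Matrix
open scoped ComplexConjugate

variable {n : ℕ} {M : CoxeterMatrix (Fin n)} {C : Weyl.Cert} {D : ChevalleyDatum}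

/-- `v p_i` is positive: multiplication of `v` by `s_i` on the right goes up. -/
def Up (hC : Weyl.Good C D M) (v : M.Group) (i : Fin n) : Prop :=
  D.nroots / 2 ≤ (hC.hom v ⟨D.simple i, (hC.simple_spec i.isLt).2.1⟩).val

variable (hC : Weyl.Good C D M)

theorem inv_up {v : M.Group} {i : Fin n} (h : Up hC v i) :
    hC.inv (v * M.simple i) = hC.inv v + 1 := by
  rw [← RootSys.Sys.gen_eq]; exact hC.inv_mul_gen i.isLt h

theorem inv_down {v : M.Group} {i : Fin n} (h : ¬ Up hC v i) :
    hC.inv (v * M.simple i) + 1 = hC.inv v := by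
  rw [← RootSys.Sys.gen_eq]; exact hC.inv_mul_gen_neg i.isLt (not_le.1 h)

theorem up_of_down {v : M.Group} {i : Fin n} (h : ¬ Up hC v i) : Up hC (v * M.simple i) i := by
  by_contra h'
  have h1 := inv_down hC h
  have h2 := inv_down hC h'
  rw [mul_assoc, show M.simple i * M.simple i = 1 from M.toCoxeterSystem.simple_mul_simple_self i,
    mul_one] at h2
  omega

/-- A reduced word, read from the right. -/
inductive Red : List (Fin n) → M.Group → Prop
  | nil : Red [] 1
  | snoc {l : List (Fin n)} {u : M.Group} {i : Fin n} :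
      Red l u → Up hC u i → Red (i :: l) (u * M.simple i)

theorem exists_red (u : M.Group) : ∃ l, Red hC l u := by
  suffices ∀ k u, hC.inv u = k → ∃ l, Red hC l u from this _ u rfl
  intro k
  induction k with
  | zero => intro u h; rw [hC.eq_one_of_inv_eq_zero h]; exact ⟨[], Red.nil⟩
  | succ k ih =>
      intro u h
      have hu : u ≠ 1 := fun e => by rw [e, hC.inv_one] at h; omega
      obtain ⟨i, hi, hneg⟩ := hC.exists_descent hu
      have hd : ¬ Up hC u ⟨i, hi⟩ := not_le.2 hneg
      have h1 := inv_down hC hd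
      obtain ⟨l, hl⟩ := ih (u * M.simple ⟨i, hi⟩) (by omega)
      refine ⟨⟨i, hi⟩ :: l, ?_⟩
      have h2 := Red.snoc hl (up_of_down hC hd)
      rwa [mul_assoc, show M.simple ⟨i, hi⟩ * M.simple ⟨i, hi⟩ = 1 from
        M.toCoxeterSystem.simple_mul_simple_self _, mul_one] at h2

variable [Fintype M.Group] [DecidableEq M.Group]

open Classical in
/-- The product of the basis element of `v` with that of `s_i`. -/
noncomputable def stepCoef {R : Type*} [CommRing R] (q : R) (v : M.Group) (i : Fin n)
    (x : M.Group) : R :=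
  if Up hC v i then (if v * M.simple i = x then 1 else 0)
  else q * (if v * M.simple i = x then 1 else 0) + (q - 1) * (if v = x then 1 else 0)


/-- The product of the basis element of `v` with those along a word. -/
noncomputable def wordCoef {R : Type*} [CommRing R] (q : R) :
    List (Fin n) → M.Group → M.Group → R
  | [], v, x => if v = x then 1 else 0
  | i :: l, v, x => ∑ a, wordCoef q l v a * stepCoef hC q a i x

/-- The universal structure polynomials. -/
noncomputable def heckePoly (v u x : M.Group) : Polynomial ℂ :=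
  wordCoef hC Polynomial.X (exists_red hC u).choose v x

theorem heckePoly_eval (t : ℂ) (v u x : M.Group) :
    (heckePoly hC v u x).eval t = wordCoef hC t (exists_red hC u).choose v x := by
  unfold heckePoly
  generalize (exists_red hC u).choose = l
  induction l generalizing x with
  | nil => simp only [wordCoef]; split_ifs <;> simp
  | cons i l ih =>
      simp only [wordCoef, Polynomial.eval_finsetSum, Polynomial.eval_mul, ih]
      refine sum_congr rfl fun a _ => ?_
      congr 1
      unfold stepCoef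
      split_ifs <;> simp

theorem wordCoef_one {l : List (Fin n)} {u : M.Group} (hl : Red hC l u) (v x : M.Group) :
    wordCoef hC (1 : ℂ) l v x = if v * u = x then 1 else 0 := by
  induction hl generalizing x with
  | nil => simp [wordCoef]
  | @snoc l u i _ _ ih =>
      simp only [wordCoef, ih, ite_mul, one_mul, zero_mul, sum_ite_eq, mem_univ, if_true]
      have h1 : ∀ a, stepCoef hC (1 : ℂ) a i x = if a * M.simple i = x then 1 else 0 := by
        intro a
        unfold stepCoef
        split_ifs <;> simp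
      rw [h1, mul_assoc]

section Model

set_option linter.unusedSectionVars false

variable {hC} {G F : Type*} [Group G] [Field F] (S : RootSys.Sys hC G F)

/-- The double coset index. -/
noncomputable def cl (g : G) : M.Group := (S.exists_cell g).choose

theorem mem_cell_iff {g : G} {w : M.Group} : g ∈ S.cell w ↔ cl S g = w :=
  ⟨fun h => S.cell_unique (S.exists_cell g).choose_spec h,
    fun h => h ▸ (S.exists_cell g).choose_spec⟩

theorem mem_cell (g : G) : g ∈ S.cell (cl S g) := (mem_cell_iff S).2 rfl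

theorem cl_rep (w : M.Group) : cl S (S.rep w) = w := (mem_cell_iff S).1 (S.rep_mem_cell w)

theorem cl_mul_B {b : G} (hb : b ∈ S.ambient.B) (g : G) :
    cl S (b * g) = cl S g ∧ cl S (g * b) = cl S g := by
  obtain ⟨u, hu, h, hh, rfl⟩ := hb
  refine ⟨(mem_cell_iff S).1 ?_, (mem_cell_iff S).1 ?_⟩
  · rw [mul_assoc]; exact S.cell_left_U hu (S.cell_left_H hh (mem_cell S g))
  · rw [← mul_assoc]; exact S.cell_right_H hh (S.cell_right_U hu (mem_cell S g))

theorem cl_inv (g : G) : cl S g⁻¹ = (cl S g)⁻¹ := (mem_cell_iff S).1 (S.cell_inv (mem_cell S g))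

theorem cl_eq_one {g : G} : cl S g = 1 ↔ g ∈ S.ambient.B := by
  constructor
  · intro h
    obtain ⟨u, hu, k, hk, u', hu', k', hk', e⟩ := (mem_cell_iff S).2 h
    rw [S.rep_one, mul_one] at e
    rw [e]
    exact mul_mem (show u * k ∈ S.ambient.B from ⟨u, hu, k, hk, rfl⟩)
      (show u' * k' ∈ S.ambient.B from ⟨u', hu', k', hk', rfl⟩)
  · intro h
    have := (cl_mul_B S h 1).1
    rw [mul_one] at this
    rw [this, ← S.rep_one, cl_rep]

theorem comp_cl_biinv (f : M.Group → ℂ) : Biinv S.ambient.B fun g => f (cl S g) :=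
  fun b hb x => ⟨by simp only [(cl_mul_B S hb x).1], by simp only [(cl_mul_B S hb x).2]⟩

theorem biinv_eq {f : G → ℂ} (hf : Biinv S.ambient.B f) (g : G) :
    f g = f (S.rep (cl S g)) := by
  obtain ⟨u, hu, h, hh, u', hu', h', hh', e⟩ := mem_cell S g
  conv_lhs => rw [e]
  rw [(hf _ (show u' * h' ∈ S.ambient.B from ⟨u', hu', h', hh', rfl⟩) _).2,
    (hf _ (show u * h ∈ S.ambient.B from ⟨u, hu, h, hh, rfl⟩) _).1]

theorem simple_conj_mem (i : Fin n) {w : M.Group} (hup : Up hC w i) {b : G}
    (hb : b ∈ S.Uw (M.simple i)) : S.rep w * b * (S.rep w)⁻¹ ∈ S.U := by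
  refine RootSys.conj_mem_XS (fun r hr t => ?_) hb
  obtain ⟨h1, h2, h3⟩ := RootSys.Sys.mem_flip.1 hr
  have hr' : r = D.simple i := by
    by_contra hne
    rw [hC.hom_simple, hC.sigmaPerm_val] at h3
    dsimp only at h3
    have := (hC.sigma_spec i.isLt h1).2.2.2.2 h2 hne
    omega
  subst hr'
  obtain ⟨t', e⟩ := S.rep_conj w _ h1 t
  rw [e]
  exact S.x_mem_U (Fin.isLt _) hup t'

theorem cl_mul_of_up {i : Fin n} {y z : G} (hup : Up hC (cl S y) i)
    (hz : cl S z = M.simple i) : cl S (y * z) = cl S y * M.simple i := by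
  set w := cl S y
  set s := M.simple i
  obtain ⟨u, hu, h, hh, u', hu', h', hh', ey⟩ := mem_cell S y
  obtain ⟨p, hp, k, hk, p', hp', k', hk', ez⟩ := (mem_cell_iff S).2 hz
  have hm : u' * h' * (p * k) ∈ S.ambient.B :=
    mul_mem (show u' * h' ∈ S.ambient.B from ⟨u', hu', h', hh', rfl⟩)
      (show p * k ∈ S.ambient.B from ⟨p, hp, k, hk, rfl⟩)
  obtain ⟨a, ha, m, hm', em⟩ := hm
  have e : y * z = u * h * (S.rep w * a * S.rep s) * ((S.rep s)⁻¹ * m * S.rep s) * (p' * k') := by
    rw [ey, ez, show u * h * S.rep w * (u' * h') * (p * k * S.rep s * (p' * k'))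
      = u * h * S.rep w * (u' * h' * (p * k)) * S.rep s * (p' * k') by group, em]
    group
  rw [e, (cl_mul_B S (show p' * k' ∈ S.ambient.B from ⟨p', hp', k', hk', rfl⟩) _).2]
  obtain ⟨k1, hk1, e1⟩ := S.rep_inv s
  rw [show s⁻¹ = s from
    inv_eq_of_mul_eq_one_right (M.toCoxeterSystem.simple_mul_simple_self i)] at e1
  have hcj : ∀ t, (S.rep s)⁻¹ * t * S.rep s = k1 * (S.rep s * t * (S.rep s)⁻¹) * k1⁻¹ := by
    intro t
    calc (S.rep s)⁻¹ * t * S.rep s = (S.rep s)⁻¹ * t * ((S.rep s)⁻¹)⁻¹ := by rw [inv_inv]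
      _ = (k1 * S.rep s) * t * (k1 * S.rep s)⁻¹ := by rw [e1]
      _ = _ := by group
  have hm2 : (S.rep s)⁻¹ * m * S.rep s ∈ S.H := by
    have := mul_mem (mul_mem hk1 (S.rep_conj_H s hm')) (inv_mem hk1)
    rwa [hcj]
  rw [(cl_mul_B S (S.ambient.H_le_B hm2) _).2,
    (cl_mul_B S (show u * h ∈ S.ambient.B from ⟨u, hu, h, hh, rfl⟩) _).1]
  obtain ⟨b, hb, c, hc, ea⟩ := S.U_split s (inv_mem ha)
  have ha2 : S.rep w * c⁻¹ * (S.rep w)⁻¹ ∈ S.U := simple_conj_mem S i hup (inv_mem hc)
  have ha3 : (S.rep s)⁻¹ * b⁻¹ * S.rep s ∈ S.U := by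
    have := S.H_conj_U hk1 (S.keep_conj s (inv_mem hb))
    rwa [hcj]
  obtain ⟨k2, hk2, e2⟩ := S.rep_mul w s
  have e3 : S.rep w * a * S.rep s = (S.rep w * c⁻¹ * (S.rep w)⁻¹) * (k2 * S.rep (w * s))
      * ((S.rep s)⁻¹ * b⁻¹ * S.rep s) := by
    rw [← e2, show a = c⁻¹ * b⁻¹ by rw [← _root_.mul_inv_rev, ← ea, inv_inv]]
    group
  rw [e3, (cl_mul_B S (S.ambient.U_le_B ha3) _).2, (cl_mul_B S (S.ambient.U_le_B ha2) _).1,
    (cl_mul_B S (S.ambient.H_le_B hk2) _).1, cl_rep]

theorem cl_mul_simple {i : Fin n} {y z : G} (hy : cl S y = M.simple i)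
    (hz : cl S z = M.simple i) : cl S (y * z) = 1 ∨ cl S (y * z) = M.simple i := by
  obtain ⟨p, hp, k, hk, p', hp', k', hk', ez⟩ := (mem_cell_iff S).2 hz
  obtain ⟨h, hh, e⟩ := S.rep_simple i
  have h1 : y * (p * k * h) ∈ S.cell (M.simple i) := by
    rw [mem_cell_iff, (cl_mul_B S (mul_mem (show p * k ∈ S.ambient.B from ⟨p, hp, k, hk, rfl⟩)
      (S.ambient.H_le_B hh)) y).2, hy]
  have e' : y * z = y * (p * k * h) * S.ns i * (p' * k') := by rw [ez, e]; group
  rw [e', (cl_mul_B S (show p' * k' ∈ S.ambient.B from ⟨p', hp', k', hk', rfl⟩) _).2]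
  rcases S.step_right i h1 with h2 | h2
  · left
    rw [(mem_cell_iff S).1 h2]
    exact M.toCoxeterSystem.simple_mul_simple_self i
  · right; exact (mem_cell_iff S).1 h2

variable [Fintype G]

/-- The structure constants. -/
noncomputable def coef (u v w : M.Group) : ℂ :=
  (Nat.card S.ambient.B : ℂ)⁻¹ *
    ∑ y, (if cl S y = u then 1 else 0) * (if cl S (y⁻¹ * S.rep w) = v then 1 else 0)

/-- The order of a double coset. -/
noncomputable def cellCard (w : M.Group) : ℂ := ∑ g, if cl S g = w then 1 else 0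

theorem card_B_ne : (Nat.card S.ambient.B : ℂ) ≠ 0 := by exact_mod_cast Nat.card_pos.ne'

theorem cellCard_eq (w : M.Group) :
    cellCard S w = (Nat.card S.ambient.B : ℂ) * (Nat.card F : ℂ) ^ hC.inv w := by
  classical
  have key : ∀ w, Nat.card {g : G // cl S g = w}
      = Nat.card S.U * Nat.card S.H * Nat.card F ^ hC.inv w := by
    intro w
    rw [← S.card_Uw, ← Nat.card_prod, ← Nat.card_prod]
    refine (Nat.card_eq_of_bijective (fun p : (S.U × S.H) × S.Uw w =>
      (⟨(p.1.1 : G) * p.1.2 * S.rep w * p.2,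
        (mem_cell_iff S).1 (S.nf_mem_cell p.1.1.2 p.1.2.2 p.2.2)⟩ : {g : G // cl S g = w})) ⟨?_, ?_⟩).symm
    · intro p q hpq
      obtain ⟨-, h1, h2, h3⟩ := S.normalForm.unique p.1.1.2 q.1.1.2 p.1.2.2 q.1.2.2 p.2.2 q.2.2
        (congrArg Subtype.val hpq)
      exact Prod.ext (Prod.ext (Subtype.ext h1) (Subtype.ext h2)) (Subtype.ext h3)
    · rintro ⟨g, hg⟩
      obtain ⟨u, hu, h, hh, v, hv, e⟩ := S.cell_nf ((mem_cell_iff S).2 hg)
      exact ⟨((⟨u, hu⟩, ⟨h, hh⟩), ⟨v, hv⟩), Subtype.ext e.symm⟩
  have h1 : Nat.card S.ambient.B = Nat.card S.U * Nat.card S.H := by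
    have := key 1
    rw [hC.inv_one, pow_zero, mul_one] at this
    rw [← this]
    exact Nat.card_congr (Equiv.subtypeEquivRight fun g => (cl_eq_one S).symm)
  rw [cellCard, ← natCast_card_filter, ← Fintype.card_subtype, ← Nat.card_eq_fintype_card, key, h1]
  push_cast
  ring

/-- Convolution in coordinates. -/
theorem conv_comp (f g : M.Group → ℂ) (x : G) :
    conv (fun y => f (cl S y)) (fun y => g (cl S y)) x
      = (Nat.card S.ambient.B : ℂ) * ∑ u, ∑ v, f u * g v * coef S u v (cl S x) := by
  obtain ⟨a, ha, h, hh, u', hu', h', hh', e⟩ := mem_cell S x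
  have h1 : conv (fun y => f (cl S y)) (fun y => g (cl S y)) x
      = ∑ y, f (cl S y) * g (cl S (y⁻¹ * S.rep (cl S x))) := by
    refine Fintype.sum_equiv (Equiv.mulLeft (a * h)⁻¹) _ _ fun y => ?_
    simp only [Equiv.coe_mulLeft]
    rw [(cl_mul_B S (inv_mem (show a * h ∈ S.ambient.B from ⟨a, ha, h, hh, rfl⟩)) y).1,
      ← (cl_mul_B S (show u' * h' ∈ S.ambient.B from ⟨u', hu', h', hh', rfl⟩)
        (((a * h)⁻¹ * y)⁻¹ * S.rep (cl S x))).2]
    congr 2
    conv_lhs => rw [e]
    group
  rw [h1]
  simp only [coef, mul_sum, ← mul_assoc]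
  conv_rhs => enter [2, u]; rw [sum_comm]
  conv_rhs => rw [sum_comm]
  refine sum_congr rfl fun y _ => ?_
  rw [Fintype.sum_eq_single (cl S y) (fun u hu => by simp [hu.symm]),
    Fintype.sum_eq_single (cl S (y⁻¹ * S.rep (cl S x))) (fun v hv => by simp [hv.symm])]
  simp [field, card_B_ne S, mul_comm, mul_left_comm, mul_assoc]

theorem conv_assoc (f g h : G → ℂ) (x : G) : conv (conv f g) h x = conv f (conv g h) x := by
  simp only [conv, sum_mul, mul_sum]
  rw [sum_comm]
  refine sum_congr rfl fun y _ => ?_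
  refine Fintype.sum_equiv (Equiv.mulLeft y⁻¹) _ _ fun z => ?_
  simp [mul_assoc]

theorem isStruct : IsStruct (coef S) 1 := by
  have hleft : ∀ v w, coef S 1 v w = if v = w then 1 else 0 := by
    intro v w
    have : ∀ y, (if cl S y = 1 then (1 : ℂ) else 0)
          * (if cl S (y⁻¹ * S.rep w) = v then 1 else 0)
        = (if cl S y = 1 then 1 else 0) * (if v = w then 1 else 0) := by
      intro y
      by_cases hy : cl S y = 1
      · rw [(cl_mul_B S (inv_mem ((cl_eq_one S).1 hy)) _).1, cl_rep]
        simp [eq_comm]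
      · simp [hy]
    rw [coef, sum_congr rfl fun y _ => this y, ← sum_mul, ← cellCard, cellCard_eq, hC.inv_one,
      pow_zero, mul_one, inv_mul_cancel_left₀ (card_B_ne S)]
  have hright : ∀ v w, coef S v 1 w = if v = w then 1 else 0 := by
    intro v w
    have h1 : ∀ y, (if cl S y = v then (1 : ℂ) else 0)
          * (if cl S (y⁻¹ * S.rep w) = 1 then 1 else 0)
        = (if v = w then 1 else 0) * (if cl S (y⁻¹ * S.rep w) = 1 then 1 else 0) := by
      intro y
      by_cases hy : cl S (y⁻¹ * S.rep w) = 1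
      · have : cl S y = w := by
          have := (cl_mul_B S (inv_mem ((cl_eq_one S).1 hy)) (S.rep w)).2
          rwa [cl_rep, _root_.mul_inv_rev, inv_inv, mul_inv_cancel_left] at this
        simp [this, eq_comm]
      · simp [hy]
    have h2 : ∑ y, (if cl S (y⁻¹ * S.rep w) = 1 then (1 : ℂ) else 0) = cellCard S 1 :=
      Fintype.sum_equiv ((Equiv.inv G).trans (Equiv.mulRight (S.rep w))) _ _ fun y => rfl
    rw [coef, sum_congr rfl fun y _ => h1 y, ← mul_sum, h2, cellCard_eq, hC.inv_one, pow_zero,
      mul_one, mul_comm (if v = w then (1 : ℂ) else 0), inv_mul_cancel_left₀ (card_B_ne S)]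
  refine ⟨fun u v x w => ?_, hleft, hright⟩
  set δ : M.Group → M.Group → ℂ := fun u a => if u = a then 1 else 0
  have h := conv_assoc (fun y => δ u (cl S y)) (fun y => δ v (cl S y)) (fun y => δ x (cl S y))
    (S.rep w)
  have e1 : conv (fun y => δ u (cl S y)) (fun y => δ v (cl S y))
      = fun y => ((Nat.card S.ambient.B : ℂ) * coef S u v (cl S y)) := by
    funext y; rw [conv_comp]; simp [δ]
  have e2 : conv (fun y => δ v (cl S y)) (fun y => δ x (cl S y))
      = fun y => ((Nat.card S.ambient.B : ℂ) * coef S v x (cl S y)) := by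
    funext y; rw [conv_comp]; simp [δ]
  rw [e1, e2, conv_comp S (fun a => (Nat.card S.ambient.B : ℂ) * coef S u v a),
    conv_comp S (δ u) (fun a => (Nat.card S.ambient.B : ℂ) * coef S v x a), cl_rep] at h
  simp only [δ, mul_ite, mul_one, mul_zero, ite_mul, one_mul, zero_mul, sum_ite_eq, mem_univ,
    if_true, mul_assoc, ← mul_sum] at h
  have h3 := mul_left_cancel₀ (card_B_ne S) h
  simp only [sum_ite_irrel, sum_const_zero, sum_ite_eq, mem_univ, if_true, ← mul_sum] at h3
  exact mul_left_cancel₀ (card_B_ne S) h3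

theorem sum_coef (u v : M.Group) :
    ∑ w, cellCard S w * coef S u v w
      = (Nat.card S.ambient.B : ℂ)⁻¹ * (cellCard S u * cellCard S v) := by
  have h : ∀ g, coef S u v (cl S g) = (Nat.card S.ambient.B : ℂ)⁻¹ *
      ∑ y, (if cl S y = u then (1 : ℂ) else 0) * (if cl S (y⁻¹ * g) = v then 1 else 0) := by
    intro g
    have := conv_comp S (fun a => if a = u then (1 : ℂ) else 0) (fun a => if a = v then 1 else 0) g
    rw [conv] at this
    rw [this, ← mul_assoc, inv_mul_cancel₀ (card_B_ne S), one_mul]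
    simp
  calc ∑ w, cellCard S w * coef S u v w = ∑ g, coef S u v (cl S g) := by
        simp only [cellCard, sum_mul, ite_mul, one_mul, zero_mul]
        rw [sum_comm]
        simp
    _ = _ := by
        simp only [h, ← mul_sum]
        congr 1
        rw [sum_comm]
        simp only [← mul_sum, cellCard, sum_mul]
        refine sum_congr rfl fun y _ => congrArg _ ?_
        exact Fintype.sum_equiv (Equiv.mulLeft y⁻¹) _ _ fun g => rfl

theorem exists_of_coef_ne_zero {u v w : M.Group} (h : coef S u v w ≠ 0) :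
    ∃ y, cl S y = u ∧ cl S (y⁻¹ * S.rep w) = v := by
  by_contra hcon
  refine h ?_
  rw [coef, sum_eq_zero fun y _ => ?_, mul_zero]
  by_cases h1 : cl S y = u
  · have : cl S (y⁻¹ * S.rep w) ≠ v := fun h2 => hcon ⟨y, h1, h2⟩
    simp [this]
  · simp [h1]

theorem inv_simple (i : Fin n) : hC.inv (M.simple i) = 1 := by
  have h := inv_up hC (v := 1) (i := i) (by simpa [Up] using (hC.simple_spec i.isLt).1)
  rwa [one_mul, hC.inv_one] at h

theorem cardF_ne [Finite F] : (Nat.card F : ℂ) ≠ 0 := by exact_mod_cast Nat.card_pos.ne'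

theorem coef_up [Finite F] {v : M.Group} {i : Fin n} (h : Up hC v i) (x : M.Group) :
    coef S v (M.simple i) x = if v * M.simple i = x then 1 else 0 := by
  have hsupp : ∀ x, x ≠ v * M.simple i → coef S v (M.simple i) x = 0 := by
    intro x hx
    by_contra hne
    obtain ⟨y, h1, h2⟩ := exists_of_coef_ne_zero S hne
    have := cl_mul_of_up S (y := y) (h1 ▸ h) h2
    rw [mul_inv_cancel_left, cl_rep, h1] at this
    exact hx this
  split_ifs with hx
  · subst hx
    have hs := sum_coef S v (M.simple i)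
    rw [Fintype.sum_eq_single (v * M.simple i) (fun w hw => by rw [hsupp w hw, mul_zero])] at hs
    simp only [cellCard_eq, inv_simple, inv_up hC h] at hs
    have hB := card_B_ne S
    have hq : (Nat.card F : ℂ) ≠ 0 := cardF_ne
    refine mul_left_cancel₀ (mul_ne_zero hB (pow_ne_zero (hC.inv v + 1) hq)) ?_
    rw [hs, mul_one]
    field_simp
    ring
  · exact hsupp x (Ne.symm hx)

theorem coef_simple [Finite F] (i : Fin n) (x : M.Group) :
    coef S (M.simple i) (M.simple i) x = (Nat.card F : ℂ) * (if 1 = x then 1 else 0)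
      + ((Nat.card F : ℂ) - 1) * (if M.simple i = x then 1 else 0) := by
  set q : ℂ := (Nat.card F : ℂ)
  have hB := card_B_ne S
  have hq : q ≠ 0 := cardF_ne
  have hne : M.simple i ≠ 1 := RootSys.Sys.simple_ne_one (hC := hC) i
  have hsupp : ∀ x, x ≠ 1 → x ≠ M.simple i → coef S (M.simple i) (M.simple i) x = 0 := by
    intro x hx hx'
    by_contra hne
    obtain ⟨y, h1, h2⟩ := exists_of_coef_ne_zero S hne
    have := cl_mul_simple S h1 h2
    rw [mul_inv_cancel_left, cl_rep] at this
    tauto
  have h1 : coef S (M.simple i) (M.simple i) 1 = q := by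
    have hss : (M.simple i)⁻¹ = M.simple i :=
      inv_eq_of_mul_eq_one_right (M.toCoxeterSystem.simple_mul_simple_self i)
    have : ∀ y, (if cl S y = M.simple i then (1 : ℂ) else 0)
        * (if cl S (y⁻¹ * S.rep 1) = M.simple i then 1 else 0)
        = if cl S y = M.simple i then 1 else 0 := by
      intro y
      rw [S.rep_one, mul_one, cl_inv]
      by_cases hy : cl S y = M.simple i
      · simp [hy, hss]
      · simp [hy]
    rw [coef, sum_congr rfl fun y _ => this y, ← cellCard, cellCard_eq, inv_simple, pow_one,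
      inv_mul_cancel_left₀ hB]
  by_cases hx1 : x = 1
  · subst hx1; simp [h1, hne]
  by_cases hx2 : x = M.simple i
  · subst hx2
    simp only [Ne.symm hne, if_false, if_true, mul_zero, zero_add, mul_one]
    have hs := sum_coef S (M.simple i) (M.simple i)
    rw [Fintype.sum_eq_add 1 (M.simple i) (Ne.symm hne) (fun w hw => by
      rw [hsupp w hw.1 hw.2, mul_zero])] at hs
    simp only [cellCard_eq, inv_simple, hC.inv_one, h1, pow_zero, pow_one, mul_one] at hs
    refine mul_left_cancel₀ (mul_ne_zero hB hq) ?_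
    have : (Nat.card S.ambient.B : ℂ)⁻¹ * ((Nat.card S.ambient.B : ℂ) * q * ((Nat.card S.ambient.B : ℂ) * q))
        = (Nat.card S.ambient.B : ℂ) * q * q := by field_simp
    rw [this] at hs
    linear_combination hs
  · rw [hsupp x hx1 hx2, if_neg (Ne.symm hx1), if_neg (Ne.symm hx2)]; ring

theorem coef_step [Finite F] (v : M.Group) (i : Fin n) (x : M.Group) :
    coef S v (M.simple i) x = stepCoef hC (Nat.card F : ℂ) v i x := by
  unfold stepCoef
  by_cases h : Up hC v i
  · rw [if_pos h, coef_up S h]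
  · rw [if_neg h]
    have hup := up_of_down hC h
    have hv : v * M.simple i * M.simple i = v := by
      rw [mul_assoc, show M.simple i * M.simple i = 1 from
        M.toCoxeterSystem.simple_mul_simple_self i, mul_one]
    have := (isStruct S).assoc (v * M.simple i) (M.simple i) (M.simple i) x
    simp only [coef_up S hup, hv, ite_mul, one_mul, zero_mul, sum_ite_eq, mem_univ, if_true] at this
    rw [this]
    simp only [coef_simple, add_mul, sum_add_distrib, mul_assoc, ← mul_sum, ite_mul, one_mul,
      zero_mul, sum_ite_eq, mem_univ, if_true, (isStruct S).right, coef_up S hup, hv]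

theorem coef_eq_word [Finite F] {l : List (Fin n)} {u : M.Group} (hl : Red hC l u)
    (v x : M.Group) : coef S v u x = wordCoef hC (Nat.card F : ℂ) l v x := by
  induction hl generalizing x with
  | nil => simp [wordCoef, (isStruct S).right]
  | @snoc l u i _ hup ih =>
      simp only [wordCoef, ← ih, ← coef_step S, (isStruct S).assoc, coef_up S hup, ite_mul,
        one_mul, zero_mul, sum_ite_eq, mem_univ, if_true]

/-- The structure constants are the universal polynomials at the order of the field. -/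
theorem coef_eq_poly [Finite F] :
    coef S = fun u v w => (heckePoly hC u v w).eval (Nat.card F : ℂ) := by
  funext u v w
  rw [heckePoly_eval, coef_eq_word S (exists_red hC v).choose_spec]

/-- The trace form is nondegenerate. -/
theorem det_formMat_ne_zero [Finite F] : (formMat (coef S)).det ≠ 0 := by
  intro hdet
  obtain ⟨a, ha, hGa⟩ := exists_mulVec_eq_zero_iff.2 hdet
  apply ha
  set L : (M.Group → ℂ) → M.Group → M.Group → ℂ := fun f x y => ∑ u, f u * coef S u y x
  set b : M.Group → ℂ := fun v => conj (a v⁻¹)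
  have hN : ∀ f x y, cellCard S x * L f x y = (Nat.card S.ambient.B : ℂ)⁻¹ *
      ∑ h, ∑ k, f (cl S h) * (if cl S (h * k) = x then 1 else 0)
        * (if cl S k = y then 1 else 0) := by
    intro f x y
    have h1 : ∀ g, L f (cl S g) y = (Nat.card S.ambient.B : ℂ)⁻¹ *
        ∑ h, f (cl S h) * (if cl S (h⁻¹ * g) = y then (1 : ℂ) else 0) := by
      intro g
      have := conv_comp S f (fun v => if v = y then (1 : ℂ) else 0) g
      rw [conv] at this
      rw [this, ← mul_assoc, inv_mul_cancel₀ (card_B_ne S), one_mul]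
      simp [L]
    calc cellCard S x * L f x y = ∑ g, (if cl S g = x then 1 else 0) * L f (cl S g) y := by
          rw [cellCard, sum_mul]
          exact sum_congr rfl fun g _ => by split_ifs with hg <;> simp [hg]
      _ = _ := by
          simp only [h1, mul_sum]
          rw [sum_comm]
          refine sum_congr rfl fun h _ => ?_
          refine Fintype.sum_equiv (Equiv.mulLeft h⁻¹) _ _ fun g => ?_
          simp only [Equiv.coe_mulLeft, mul_inv_cancel_left]
          by_cases h2 : cl S g = x <;> by_cases h3 : cl S (h⁻¹ * g) = y <;> simp [h2, h3, mul_comm]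
  have hadj : ∀ x y, cellCard S y * L b y x = conj (cellCard S x * L a x y) := by
    intro x y
    rw [hN, hN, map_mul, map_inv₀, Complex.conj_natCast, map_sum]
    congr 1
    refine Fintype.sum_equiv (Equiv.inv G) _ _ fun h => ?_
    rw [map_sum]
    refine Fintype.sum_equiv (Equiv.mulLeft h) _ _ fun k => ?_
    simp only [Equiv.coe_mulLeft, Equiv.inv_apply, b, cl_inv, inv_mul_cancel_left, map_mul,
      apply_ite conj, map_one, map_zero]
    by_cases h2 : cl S (h * k) = y <;> by_cases h3 : cl S k = x <;> simp [h2, h3]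
  have htr : ∑ x, ∑ y, L a x y * L b y x = 0 := by
    have h0 : ∑ u, b u * (formMat (coef S) *ᵥ a) u = 0 := by simp [hGa]
    rw [← h0]
    simp only [L, formMat, lMat, Matrix.mulVec, dotProduct, Matrix.trace, Matrix.diag_apply,
      Matrix.mul_apply, mul_sum, sum_mul]
    conv_lhs => enter [2, x, 2, y]; rw [sum_comm]
    conv_lhs => enter [2, x]; rw [sum_comm]; enter [2, u]; rw [sum_comm]
    conv_lhs => rw [sum_comm]; enter [2, u]; rw [sum_comm]
    conv_lhs => rw [sum_comm]
    refine sum_congr rfl fun u _ => sum_congr rfl fun w _ => ?_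
    rw [sum_comm]
    refine sum_congr rfl fun x _ => sum_congr rfl fun y _ => ?_
    ring
  obtain ⟨N, hN', hNc⟩ : ∃ N : M.Group → ℝ, (∀ x, 0 < N x) ∧ ∀ x, cellCard S x = (N x : ℂ) :=
    ⟨fun x => (Nat.card S.ambient.B : ℝ) * (Nat.card F : ℝ) ^ hC.inv x,
      fun x => mul_pos (by exact_mod_cast Nat.card_pos) (pow_pos (by exact_mod_cast Nat.card_pos) _),
      fun x => by rw [cellCard_eq]; push_cast; rfl⟩
  have hterm : ∀ x y, L a x y * L b y x = ((N x / N y * Complex.normSq (L a x y) : ℝ) : ℂ) := by
    intro x y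
    have h1 := hadj x y
    rw [hNc, hNc, map_mul, Complex.conj_ofReal] at h1
    have hy : (N y : ℂ) ≠ 0 := by exact_mod_cast (hN' y).ne'
    push_cast
    rw [Complex.normSq_eq_conj_mul_self, div_mul_eq_mul_div, eq_div_iff hy]
    linear_combination (L a x y) * h1
  simp only [hterm, ← Complex.ofReal_sum, Complex.ofReal_eq_zero] at htr
  funext x
  have hnn : ∀ x y, 0 ≤ N x / N y * Complex.normSq (L a x y) := fun x y =>
    mul_nonneg (div_pos (hN' x) (hN' y)).le (Complex.normSq_nonneg _)
  have h1 := (sum_eq_zero_iff_of_nonneg fun x _ => sum_nonneg fun y _ => hnn x y).1 htr x (mem_univ x)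
  have h2 := (sum_eq_zero_iff_of_nonneg fun y _ => hnn x y).1 h1 1 (mem_univ 1)
  rw [mul_eq_zero, Complex.normSq_eq_zero] at h2
  have h3 := h2.resolve_left (div_pos (hN' x) (hN' 1)).ne'
  simpa [L, (isStruct S).right] using h3

/-- The centre of the Hecke algebra in coordinates. -/
theorem finrank_centre [Fintype S.ambient.B] :
    Module.finrank ℂ (centreSub S.ambient.B)
      = Module.finrank ℂ (LinearMap.ker (commMat (coef S)).mulVecLin) := by
  let φ : (M.Group → ℂ) →ₗ[ℂ] (G → ℂ) := LinearMap.funLeft ℂ ℂ (cl S)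
  have hinj : Function.Injective φ :=
    LinearMap.funLeft_injective_of_surjective ℂ ℂ _ fun w => ⟨_, cl_rep S w⟩
  have key : ∀ f : M.Group → ℂ, (φ f ∈ centreSub S.ambient.B ↔ commMat (coef S) *ᵥ f = 0) := by
    intro f
    have hM : ∀ v w, (commMat (coef S) *ᵥ f) (v, w)
        = ∑ u, f u * coef S u v w - ∑ u, f u * coef S v u w := by
      intro v w
      simp only [Matrix.mulVec, dotProduct, commMat, ← sum_sub_distrib]
      exact sum_congr rfl fun u _ => by ring
    constructor
    · intro h
      funext ⟨v, w⟩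
      have h1 := h.2 _ (comp_cl_biinv S fun a => if a = v then (1 : ℂ) else 0) (S.rep w)
      show (commMat (coef S) *ᵥ f) (v, w) = 0
      rw [show (φ f : G → ℂ) = fun y => f (cl S y) from rfl, conv_comp S f (fun a => if a = v then (1 : ℂ) else 0),
        conv_comp S (fun a => if a = v then (1 : ℂ) else 0) f, cl_rep] at h1
      have h2 := mul_left_cancel₀ (card_B_ne S) h1
      simp only [mul_ite, mul_one, mul_zero, ite_mul, one_mul, zero_mul, sum_ite_eq',
        sum_ite_irrel, sum_const_zero, mem_univ, if_true] at h2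
      rw [hM, h2, sub_self]
    · intro h
      refine ⟨comp_cl_biinv S f, fun g hg x => ?_⟩
      rw [show g = fun y => g (S.rep (cl S y)) from funext (biinv_eq S hg),
        show (φ f : G → ℂ) = fun y => f (cl S y) from rfl,
        conv_comp S f (fun a => g (S.rep a)), conv_comp S (fun a => g (S.rep a)) f]
      congr 1
      rw [sum_comm]
      refine sum_congr rfl fun v _ => ?_
      have := hM v (cl S x)
      rw [h, Pi.zero_apply, eq_comm, sub_eq_zero] at this
      calc ∑ u, f u * g (S.rep v) * coef S u v (cl S x)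
          = g (S.rep v) * ∑ u, f u * coef S u v (cl S x) := by
            rw [mul_sum]; exact sum_congr rfl fun u _ => by ring
        _ = _ := by rw [this, mul_sum]; exact sum_congr rfl fun u _ => by ring
  have : (LinearMap.ker (commMat (coef S)).mulVecLin).map φ = centreSub S.ambient.B := by
    ext f
    constructor
    · rintro ⟨g, hg, rfl⟩; exact (key g).2 hg
    · intro hf
      have e : φ (fun w => f (S.rep w)) = f := funext fun y => (biinv_eq S hf.1 y).symm
      exact ⟨_, (key _).1 (by rw [e]; exact hf), e⟩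
  rw [← this, (Submodule.equivMapOfInjective φ hinj _).finrank_eq]

end Model

end Cfsg.Agent.Chevalley.Hecke
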