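import Cfsg.Agent.CharBasic.Complete
import Cfsg.Agent.CharBasic.Virtual
import Cfsg.Agent.H54.PermChar
import Cfsg.Prelude.Def_ParabolicCharacters

/-!
The centre of the Hecke algebra of a finite group relative to a subgroup `B`: its dimension is the
number of distinct irreducible constituents of the permutation character on the cosets of `B`.
-/
set_option autoImplicit false

namespace Cfsg.Agent.Chevalley.Hecke

open Finset Cfsg.Agent.CharBasic
open scoped ComplexConjugate

variable {G : Type*} [Group G] (B : Subgroup G)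

/-- Functions constant on the double cosets of `B`. -/
def Biinv (f : G → ℂ) : Prop := ∀ b ∈ B, ∀ x, f (b * x) = f x ∧ f (x * b) = f x

/-- The convolution of two functions. -/
noncomputable def conv [Fintype G] (f h : G → ℂ) (x : G) : ℂ := ∑ y, f y * h (y⁻¹ * x)

/-- The centre of the Hecke algebra. -/
noncomputable def centreSub [Fintype G] : Submodule ℂ (G → ℂ) where
  carrier := {f | Biinv B f ∧ ∀ h, Biinv B h → ∀ x, conv f h x = conv h f x}
  add_mem' := by
    rintro f g ⟨hf, hf'⟩ ⟨hg, hg'⟩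
    refine ⟨fun b hb x => ?_, fun h hh x => ?_⟩
    · simp only [Pi.add_apply]
      exact ⟨by rw [(hf b hb x).1, (hg b hb x).1], by rw [(hf b hb x).2, (hg b hb x).2]⟩
    · simp only [conv, Pi.add_apply, add_mul, mul_add, sum_add_distrib]
      exact congrArg₂ (· + ·) (hf' h hh x) (hg' h hh x)
  zero_mem' := ⟨fun b _ x => ⟨rfl, rfl⟩, fun h _ x => by simp [conv]⟩
  smul_mem' := by
    rintro c f ⟨hf, hf'⟩
    refine ⟨fun b hb x => ?_, fun h hh x => ?_⟩
    · simp only [Pi.smul_apply]
      exact ⟨by rw [(hf b hb x).1], by rw [(hf b hb x).2]⟩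
    · simp only [conv, Pi.smul_apply, smul_eq_mul, mul_assoc, mul_left_comm (b := c), ← mul_sum]
      exact congrArg (c * ·) (hf' h hh x)

variable (G) in
/-- The class functions. -/
noncomputable def classSub : Submodule ℂ (G → ℂ) where
  carrier := {f | Cfsg.IsClassFunction G f}
  add_mem' {a b} ha hb g h := by simp [ha g h, hb g h]
  zero_mem' _ _ := rfl
  smul_mem' c f hf g h := by simp [hf g h]

variable [Fintype B]

/-- Summation over the right translates by `B`. -/
noncomputable def avg : (G → ℂ) →ₗ[ℂ] (G → ℂ) where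
  toFun f x := ∑ b : B, f (x * b)
  map_add' f g := by funext x; simp [sum_add_distrib]
  map_smul' c f := by funext x; simp [mul_sum]

omit [Fintype B] in
theorem class_mul_comm {φ : G → ℂ} (h : Cfsg.IsClassFunction G φ) (a b : G) :
    φ (a * b) = φ (b * a) := by
  have := h (b * a) a
  rw [show a * (b * a) * a⁻¹ = a * b by group] at this
  exact this

theorem sum_mul_right (f : G → ℂ) (c : B) :
    ∑ b : B, f ((b : G) * c) = ∑ b : B, f b :=
  Equiv.sum_comp (Equiv.mulRight c) (fun b : B => f b)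

theorem sum_mul_left (f : G → ℂ) (c : B) :
    ∑ b : B, f ((c : G) * b) = ∑ b : B, f b :=
  Equiv.sum_comp (Equiv.mulLeft c) (fun b : B => f b)

theorem sum_inv (f : G → ℂ) : ∑ b : B, f ((b : G)⁻¹) = ∑ b : B, f b :=
  Equiv.sum_comp (Equiv.inv B) (fun b : B => f b)

variable [Fintype G]

omit [Fintype G] in
theorem avg_biinv {φ : G → ℂ} (h : Cfsg.IsClassFunction G φ) : Biinv B (avg B φ) := by
  refine fun c hc x => ⟨?_, ?_⟩
  · show ∑ b : B, φ (c * x * b) = ∑ b : B, φ (x * b)
    calc ∑ b : B, φ (c * x * b) = ∑ b : B, φ (x * ((b : G) * c)) := by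
          refine sum_congr rfl fun b _ => ?_
          rw [mul_assoc, class_mul_comm h, mul_assoc]
      _ = _ := sum_mul_right B (fun g => φ (x * g)) ⟨c, hc⟩
  · show ∑ b : B, φ (x * c * b) = ∑ b : B, φ (x * b)
    calc ∑ b : B, φ (x * c * b) = ∑ b : B, φ (x * (c * (b : G))) := by simp [mul_assoc]
      _ = _ := sum_mul_left B (fun g => φ (x * g)) ⟨c, hc⟩

theorem avg_mem_centre {φ : G → ℂ} (hφ : Cfsg.IsClassFunction G φ) :
    avg B φ ∈ centreSub B := by
  refine ⟨avg_biinv B hφ, fun h hh x => ?_⟩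
  have e1 : conv (avg B φ) h x = ∑ _b : B, ∑ z, φ z * h (z⁻¹ * x) := by
    simp only [conv, avg, LinearMap.coe_mk, AddHom.coe_mk, sum_mul]
    rw [sum_comm]
    refine sum_congr rfl fun b _ => ?_
    refine Fintype.sum_equiv (Equiv.mulRight (b : G)) _ _ fun y => ?_
    simp only [Equiv.coe_mulRight, mul_inv_rev, mul_assoc]
    rw [(hh _ (inv_mem b.2) _).1]
  have e2 : conv h (avg B φ) x = ∑ _b : B, ∑ y, h y * φ (y⁻¹ * x) := by
    simp only [conv, avg, LinearMap.coe_mk, AddHom.coe_mk, mul_sum]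
    rw [sum_comm]
    refine sum_congr rfl fun b _ => ?_
    refine Fintype.sum_equiv (Equiv.mulRight ((b : G)⁻¹)) _ _ fun y => ?_
    simp only [Equiv.coe_mulRight, mul_inv_rev, inv_inv]
    rw [(hh _ (inv_mem b.2) y).2, class_mul_comm hφ, ← mul_assoc]
  rw [e1, e2]
  refine sum_congr rfl fun _ _ => ?_
  have h1 : ∑ y, h y * φ (y⁻¹ * x) = ∑ z, φ z * h (x * z⁻¹) := by
    refine Fintype.sum_equiv ((Equiv.inv G).trans (Equiv.mulRight x)) _ _ fun y => ?_
    simp [mul_comm (h y)]
  rw [h1]
  refine Fintype.sum_equiv (MulAut.conj x⁻¹).toEquiv _ _ fun z => ?_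
  simp only [MulEquiv.toEquiv_eq_coe, EquivLike.coe_coe, MulAut.conj_apply, inv_inv]
  rw [show φ (x⁻¹ * z * x) = φ z by simpa using hφ z x⁻¹,
    show x * (x⁻¹ * z * x)⁻¹ = z⁻¹ * x by group]

theorem centre_identity {f : G → ℂ} (hf : f ∈ centreSub B) (x t : G) :
    ∑ d : B, f (x * d * t⁻¹) = ∑ b : B, f (t⁻¹ * b * x) := by
  classical
  obtain ⟨hf1, hf2⟩ := hf
  let h : G → ℂ := fun y => ∑ b : B, ∑ d : B, if y = b * t * d then 1 else 0
  have hh : Biinv B h := by
    refine fun c hc y => ⟨?_, ?_⟩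
    · show ∑ b : B, ∑ d : B, (if c * y = b * t * d then (1 : ℂ) else 0) = _
      rw [← sum_mul_left B (fun g => ∑ d : B, if c * y = g * t * d then (1 : ℂ) else 0) ⟨c, hc⟩]
      simp only [mul_assoc, mul_right_inj]
      simp only [h, mul_assoc]
    · show ∑ b : B, ∑ d : B, (if y * c = b * t * d then (1 : ℂ) else 0) = _
      refine sum_congr rfl fun b _ => ?_
      rw [← sum_mul_right B (fun g => if y * c = b * t * g then (1 : ℂ) else 0) ⟨c, hc⟩]
      simp only [← mul_assoc, mul_left_inj]
  have key := hf2 h hh x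
  have e1 : conv f h x = ∑ _b : B, ∑ d : B, f (x * d * t⁻¹) := by
    simp only [conv, h, mul_sum, mul_ite, mul_one, mul_zero]
    rw [sum_comm]
    refine sum_congr rfl fun b _ => ?_
    rw [sum_comm, ← sum_inv B (fun g => f (x * g * t⁻¹))]
    refine sum_congr rfl fun d _ => ?_
    rw [sum_eq_single (x * (d : G)⁻¹ * t⁻¹ * (b : G)⁻¹) (fun y _ hy => if_neg fun e => hy ?_)
      (by simp), if_pos (by group), (hf1 _ (inv_mem b.2) _).2]
    rw [show y = x * (y⁻¹ * x)⁻¹ by group, e]
    group
  have e2 : conv h f x = ∑ _d : B, ∑ b : B, f (t⁻¹ * b * x) := by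
    simp only [conv, h, sum_mul, ite_mul, one_mul, zero_mul]
    rw [sum_comm, sum_comm (γ := B) (α := B)]
    conv_rhs => rw [← sum_inv B (fun g => ∑ _d : B, f (t⁻¹ * g * x))]
    refine sum_congr rfl fun b _ => ?_
    rw [sum_comm]
    refine sum_congr rfl fun d _ => ?_
    rw [sum_ite_eq' univ ((b : G) * t * d) fun y => f (y⁻¹ * x), if_pos (mem_univ _)]
    rw [show ((b : G) * t * d)⁻¹ * x = (d : G)⁻¹ * (t⁻¹ * (b : G)⁻¹ * x) by group,
      (hf1 _ (inv_mem d.2) _).1]
  rw [e1, e2, sum_const, sum_const] at key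
  exact smul_right_injective ℂ (by simp [Fintype.card_ne_zero]) key

/-- The norm of a sum over translates. -/
theorem sum_conj_avg_mul (a : G → ℂ) :
    ∑ x, conj (avg B a x) * avg B a x
      = (Fintype.card B : ℂ) * ∑ d : B, ∑ x, conj (a x) * a (x * d) := by
  simp only [avg, LinearMap.coe_mk, AddHom.coe_mk, map_sum, sum_mul]
  rw [sum_comm]
  have : ∀ c : B, (∑ x, conj (a (x * c)) * ∑ d : B, a (x * d))
      = ∑ d : B, ∑ x, conj (a x) * a (x * d) := by
    intro c
    rw [sum_comm]
    refine Fintype.sum_equiv (Equiv.mulRight (c : G)) _ _ fun x => ?_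
    rw [mul_sum]
    simp only [Equiv.coe_mulRight]
    rw [← sum_mul_left B (fun g => conj (a (x * c)) * a (x * g)) c]
    simp [mul_assoc]
  simp [this]

omit [Fintype B] in
theorem eq_zero_of_sum_conj_mul {ι : Type*} [Fintype ι] {v : ι → ℂ}
    (h : ∑ i, conj (v i) * v i = 0) : v = 0 := by
  have h' : ((∑ i, Complex.normSq (v i) : ℝ) : ℂ) = 0 := by
    rw [← h]; push_cast
    exact sum_congr rfl fun i _ => (Complex.normSq_eq_conj_mul_self)
  rw [Complex.ofReal_eq_zero, sum_eq_zero_iff_of_nonneg fun i _ => Complex.normSq_nonneg _] at h'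
  funext i
  exact Complex.normSq_eq_zero.1 (h' i (mem_univ i))

/-- The class function spread from a function. -/
noncomputable def spread : (G → ℂ) →ₗ[ℂ] (G → ℂ) where
  toFun z g := ∑ t, z (t⁻¹ * g * t)
  map_add' f g := by funext x; simp [sum_add_distrib]
  map_smul' c f := by funext x; simp [mul_sum]

omit [Fintype B] in
theorem spread_class (z : G → ℂ) : Cfsg.IsClassFunction G (spread z) := by
  intro g h
  refine Fintype.sum_equiv (Equiv.mulLeft h⁻¹) _ _ fun t => ?_
  simp [mul_assoc]

theorem avg_spread_injective {z : G → ℂ} (hz : z ∈ centreSub B)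
    (h0 : avg B (spread z) = 0) : z = 0 := by
  set F := spread z
  have hP : ∀ x, (Fintype.card B : ℂ) * avg B F x
      = ∑ b : B, ∑ t, ∑ d : B, z (x * b * t * d * t⁻¹) := by
    intro x
    have h1 : ∀ d : B, avg B F x = ∑ b : B, F (d * (x * b)) := by
      intro d
      show ∑ b : B, F (x * b) = _
      rw [← sum_mul_right B (fun g => F (x * g)) d]
      refine sum_congr rfl fun b _ => ?_
      show F _ = F _
      rw [class_mul_comm (φ := F) (spread_class z) (d : G) (x * b), mul_assoc]
    calc (Fintype.card B : ℂ) * avg B F x = ∑ d : B, ∑ b : B, F (d * (x * b)) := by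
          simp [← h1]
      _ = ∑ b : B, ∑ t, ∑ d : B, z (t⁻¹ * d * (x * b * t)) := by
          rw [sum_comm]
          refine sum_congr rfl fun b _ => ?_
          simp only [F, spread, LinearMap.coe_mk, AddHom.coe_mk]
          rw [sum_comm]
          simp only [mul_assoc]
      _ = _ := by
          refine sum_congr rfl fun b _ => sum_congr rfl fun t _ => ?_
          rw [← centre_identity B hz]
  have hsum : (Fintype.card B : ℂ) * ∑ t, ∑ d : B, ∑ x, conj (z (x * t⁻¹)) * z (x * d * t⁻¹)
      = 0 := by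
    calc (Fintype.card B : ℂ) * ∑ t, ∑ d : B, ∑ x, conj (z (x * t⁻¹)) * z (x * d * t⁻¹)
        = ∑ b : B, ∑ t, ∑ d : B, ∑ x, conj (z x) * z (x * b * t * d * t⁻¹) := by
          rw [← nsmul_eq_mul, ← card_univ, ← sum_const]
          refine sum_congr rfl fun b _ => sum_congr rfl fun t _ => sum_congr rfl fun d _ => ?_
          refine Fintype.sum_equiv (Equiv.mulRight (t⁻¹ * (b : G)⁻¹)) _ _ fun x => ?_
          simp only [Equiv.coe_mulRight]
          rw [show x * (t⁻¹ * (b : G)⁻¹) * b * t * d * t⁻¹ = x * d * t⁻¹ by group, ← mul_assoc,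
            (hz.1 _ (inv_mem b.2) _).2]
      _ = ∑ x, conj (z x) * ∑ b : B, ∑ t, ∑ d : B, z (x * b * t * d * t⁻¹) := by
          simp only [mul_sum]
          symm
          rw [sum_comm]
          refine sum_congr rfl fun b _ => ?_
          rw [sum_comm]
          refine sum_congr rfl fun t _ => ?_
          rw [sum_comm]
      _ = 0 := by simp [← hP, h0]
  have h2 : ∑ t, ∑ x, conj (avg B (fun g => z (g * t⁻¹)) x) * avg B (fun g => z (g * t⁻¹)) x
      = 0 := by
    simp only [sum_conj_avg_mul, ← mul_sum]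
    exact hsum
  have h3 : ∀ t x, avg B (fun g => z (g * t⁻¹)) x = 0 := by
    intro t x
    have := eq_zero_of_sum_conj_mul (ι := G × G)
      (v := fun p => avg B (fun g => z (g * p.1⁻¹)) p.2) (by rw [Fintype.sum_prod_type]; exact h2)
    exact congrFun this (t, x)
  funext x
  have := h3 1 x
  simp only [avg, LinearMap.coe_mk, AddHom.coe_mk, inv_one, mul_one,
    fun b : B => (hz.1 _ b.2 x).2, sum_const, card_univ, nsmul_eq_mul, mul_eq_zero] at this
  exact this.resolve_left (by simp [Fintype.card_ne_zero])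

/-- The generalised orthogonality relation. -/
theorem sum_class_mul_irr {c ψ : G → ℂ} (hc : Cfsg.IsClassFunction G c)
    (hψ : Cfsg.IsIrrCharacter G ψ) (u : G) :
    (∑ g, c g * ψ (g * u)) * ψ 1 = (∑ g, c g * ψ g) * ψ u := by
  obtain ⟨k, ρ, hρ, rfl⟩ := hψ
  obtain ⟨a, ha⟩ := schur_scalar ρ (repSum c ρ) (repSum_comm hc ρ)
  have key : ∀ v, ∑ g, c g * ρ.character (g * v) = a * ρ.character v := by
    intro v
    have h1 := congrArg (fun T => LinearMap.trace ℂ _ (T * ρ v)) ha
    simpa [repSum, sum_mul, smul_mul_assoc, Representation.character, map_sum,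
      Module.End.mul_eq_comp, ← map_mul, LinearMap.smul_comp] using h1
  have h1 := key 1
  simp only [mul_one] at h1
  rw [key u, h1]
  ring

theorem perm_inner (c : G → ℂ) (hc : Cfsg.IsClassFunction G c) :
    (Fintype.card B : ℂ) * ∑ g, Cfsg.fixedPointCharacter B g * c g
      = (Fintype.card G : ℂ) * ∑ b : B, c b := by
  classical
  have hπ : ∀ g, (Fintype.card B : ℂ) * Cfsg.fixedPointCharacter B g
      = ∑ x : G, if x⁻¹ * g * x ∈ B then (1 : ℂ) else 0 := by
    intro g
    rw [← natCast_card_filter, Cfsg.fixedPointCharacter, ← Nat.cast_mul, Nat.cast_inj,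
      ← Nat.card_eq_fintype_card, ← Fintype.card_subtype, ← Nat.card_eq_fintype_card, mul_comm,
      ← Nat.card_prod]
    refine (Nat.card_congr ?_).symm
    refine (Equiv.subtypeEquiv (Subgroup.groupEquivQuotientProdSubgroup (s := B))
      (q := fun p => p.1 ∈ MulAction.fixedBy (G ⧸ B) g) (fun x => ?_)).trans
        (Equiv.prodSubtypeFstEquivSubtypeProd )
    show _ ↔ g • (QuotientGroup.mk x : G ⧸ B) = QuotientGroup.mk x
    rw [MulAction.Quotient.smul_mk, eq_comm, QuotientGroup.eq, smul_eq_mul, mul_assoc]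
  rw [mul_sum]
  simp_rw [← mul_assoc, hπ, sum_mul, ite_mul, one_mul, zero_mul]
  rw [sum_comm]
  have : ∀ x : G, (∑ g, if x⁻¹ * g * x ∈ B then c g else 0) = ∑ b : B, c b := by
    intro x
    rw [← sum_filter]
    refine sum_bij' (fun g hg => (⟨x⁻¹ * g * x, (mem_filter.1 hg).2⟩ : B))
      (fun b _ => x * b * x⁻¹) (fun _ _ => mem_univ _) (fun b _ => by simp [mul_assoc])
      (fun g _ => by simp [mul_assoc]) (fun b _ => Subtype.ext (by simp [mul_assoc])) fun g _ => ?_
    have := hc g x⁻¹
    simpa using this.symm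
  simp [this]

/-- `χ` occurs in the permutation character iff its sum over `B` is not zero. -/
theorem constituent_iff (χ : Cfsg.IrrCharacter G) :
    (∃ φ : G → ℂ, Cfsg.IsCharacter G φ ∧ Cfsg.fixedPointCharacter B = (χ : G → ℂ) + φ) ↔
      ∑ b : B, (χ : G → ℂ) b ≠ 0 := by
  have hπ := H54.isCharacter_fixedPointCharacter B
  have hin : ∑ b : B, (χ : G → ℂ) b ≠ 0 ↔
      Cfsg.classInner (Cfsg.fixedPointCharacter B) (χ : G → ℂ) ≠ 0 := by
    rw [not_iff_not, classInner_def]
    have hc : Cfsg.IsClassFunction G fun g => conj ((χ : G → ℂ) g) := fun g h => by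
      simp only [IsIrr.isClassFunction χ.2 g h]
    have := perm_inner B _ hc
    rw [← map_sum] at this
    constructor
    · intro h
      rw [h, map_zero, mul_zero, mul_eq_zero] at this
      rw [this.resolve_left (by simp [Fintype.card_ne_zero]), mul_zero]
    · intro h
      rw [mul_eq_zero] at h
      rw [h.resolve_left (by simp), mul_zero, eq_comm, mul_eq_zero, map_eq_zero] at this
      exact this.resolve_left (by simp [Fintype.card_ne_zero])
  rw [hin]
  constructor
  · rintro ⟨φ, hφ, e⟩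
    obtain ⟨m, hm⟩ := classInner_isChar_nat hφ (IsIrr.isCharacter χ.2)
    rw [e, classInner_add_left, classInner_irr_self χ.2, hm, add_comm]
    exact_mod_cast Nat.succ_ne_zero m
  · intro h
    refine ⟨Cfsg.fixedPointCharacter B - (χ : G → ℂ), isCharacter_iff_nat.2 ⟨fun g x => ?_,
      fun ψ => ?_⟩, by abel⟩
    · simp only [Pi.sub_apply]
      rw [IsChar.isClassFunction hπ g x, IsIrr.isClassFunction χ.2 g x]
    · obtain ⟨m, hm⟩ := classInner_isChar_nat hπ (IsIrr.isCharacter ψ.2)
      by_cases hψ : χ = ψ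
      · subst hψ
        obtain ⟨m, rfl⟩ : ∃ m', m = m' + 1 :=
          Nat.exists_eq_succ_of_ne_zero (by rintro rfl; exact h (by simpa using hm))
        exact ⟨m, by rw [classInner_sub_left, classInner_irr_self χ.2, hm]; simp⟩
      · refine ⟨m, ?_⟩
        rw [classInner_sub_left, classInner_irr_of_ne χ.2 ψ.2 (fun e => hψ (Subtype.ext e)), hm,
          sub_zero]

theorem avg_eq_zero {χ : Cfsg.IrrCharacter G} (h : ∑ b : B, (χ : G → ℂ) b = 0) :
    avg B (χ : G → ℂ) = 0 := by
  refine eq_zero_of_sum_conj_mul ?_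
  rw [sum_conj_avg_mul]
  have hc : Cfsg.IsClassFunction G fun g => conj ((χ : G → ℂ) g) := fun g x => by
    simp only [IsIrr.isClassFunction χ.2 g x]
  have : (∑ d : B, ∑ x, conj ((χ : G → ℂ) x) * (χ : G → ℂ) (x * d)) * (χ : G → ℂ) 1 = 0 := by
    rw [sum_mul]
    simp_rw [fun d : B => sum_class_mul_irr hc χ.2 (d : G)]
    rw [← mul_sum, h, mul_zero]
  rw [(mul_eq_zero.1 this).resolve_right (IsIrr.one_ne_zero χ.2), mul_zero]

/-- The number of constituents is the dimension of the centre. -/
theorem card_constituents :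
    Nat.card {χ : Cfsg.IrrCharacter G //
        ∃ φ : G → ℂ, Cfsg.IsCharacter G φ ∧ Cfsg.fixedPointCharacter B = (χ : G → ℂ) + φ}
      = Module.finrank ℂ (centreSub B) := by
  classical
  set C := {χ : Cfsg.IrrCharacter G //
    ∃ φ : G → ℂ, Cfsg.IsCharacter G φ ∧ Cfsg.fixedPointCharacter B = (χ : G → ℂ) + φ}
  let v : C → (G → ℂ) := fun χ => avg B ((χ.1 : Cfsg.IrrCharacter G) : G → ℂ)
  have hv : LinearIndependent ℂ v := by
    refine Fintype.linearIndependent_iff.2 fun a ha i => ?_
    set φ : G → ℂ := ∑ χ : C, a χ • ((χ.1 : Cfsg.IrrCharacter G) : G → ℂ) with hφdef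
    have hφ : Cfsg.IsClassFunction G φ := fun g h => by
      simp only [φ, Finset.sum_apply, Pi.smul_apply, IsIrr.isClassFunction (Subtype.prop _) g h]
    have hP : avg B φ = 0 := by rw [hφdef, map_sum]; simpa [map_smul] using ha
    have hc : Cfsg.IsClassFunction G fun g => φ g⁻¹ := fun g h => by
      simp only [mul_inv_rev, inv_inv]
      rw [show h * (g⁻¹ * h⁻¹) = h * g⁻¹ * h⁻¹ by group, hφ]
    have hz : ∑ b : B, ∑ g, φ g⁻¹ * (i.1 : G → ℂ) (g * b) = 0 := by
      calc ∑ b : B, ∑ g, φ g⁻¹ * (i.1 : G → ℂ) (g * b)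
          = ∑ b : B, ∑ g, φ (g⁻¹ * b) * (i.1 : G → ℂ) g := by
            refine sum_congr rfl fun b _ => ?_
            refine Fintype.sum_equiv (Equiv.mulRight (b : G)) _ _ fun g => ?_
            simp only [Equiv.coe_mulRight, mul_inv_rev]
            rw [class_mul_comm hφ, ← mul_assoc, mul_inv_cancel, one_mul]
        _ = ∑ g, avg B φ g⁻¹ * (i.1 : G → ℂ) g := by
            rw [sum_comm]; simp [avg, sum_mul]
        _ = 0 := by simp [hP]
    have h1 : (∑ g, φ g⁻¹ * (i.1 : G → ℂ) g) * ∑ b : B, (i.1 : G → ℂ) b = 0 := by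
      rw [mul_sum]
      simp_rw [← fun b : B => sum_class_mul_irr hc i.1.2 (b : G), ← sum_mul]
      rw [hz, zero_mul]
    have h2 := (mul_eq_zero.1 h1).resolve_right ((constituent_iff B i.1).1 i.2)
    have h3 : Cfsg.classInner (i.1 : G → ℂ) (∑ χ : C, conj (a χ) • ((χ.1 : Cfsg.IrrCharacter G) : G → ℂ))
        = a i := by
      simp [classInner_sum_right, classInner_smul_right, classInner_irrCharacter,
        Subtype.val_inj, eq_comm (a := i)]
      exact (sum_eq_single i (fun b _ hb => if_neg hb)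
        (fun h => absurd (mem_univ i) h)).trans (if_pos rfl)
    rw [← h3, classInner_def]
    have : ∀ g, φ g⁻¹ * (i.1 : G → ℂ) g = (i.1 : G → ℂ) g *
        conj ((∑ χ : C, conj (a χ) • ((χ.1 : Cfsg.IrrCharacter G) : G → ℂ)) g) := by
      intro g
      rw [mul_comm]
      congr 1
      simp only [φ, Finset.sum_apply, Pi.smul_apply, smul_eq_mul, map_sum, map_mul, Complex.conj_conj]
      exact sum_congr rfl fun χ _ => by rw [IsChar.inv_apply (IsIrr.isCharacter χ.1.2)]
    simp only [← this, h2, mul_zero]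
  have hspan : (classSub G).map (avg B) = Submodule.span ℂ (Set.range v) := by
    refine le_antisymm ?_ (Submodule.span_le.2 ?_)
    · rintro _ ⟨φ, hφ, rfl⟩
      rw [classFunction_expansion hφ, map_sum]
      refine Submodule.sum_mem _ fun χ _ => ?_
      rw [map_smul]
      refine Submodule.smul_mem _ _ ?_
      by_cases h : ∑ b : B, (χ : G → ℂ) b = 0
      · rw [avg_eq_zero B h]; exact zero_mem _
      · exact Submodule.subset_span ⟨⟨χ, (constituent_iff B χ).2 h⟩, rfl⟩
    · rintro _ ⟨χ, rfl⟩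
      exact ⟨_, IsIrr.isClassFunction χ.1.2, rfl⟩
  have hle : (classSub G).map (avg B) ≤ centreSub B := by
    rintro _ ⟨φ, hφ, rfl⟩; exact avg_mem_centre B hφ
  have hge : Module.finrank ℂ (centreSub B) ≤ Module.finrank ℂ ((classSub G).map (avg B)) := by
    refine LinearMap.finrank_le_finrank_of_injective (f := LinearMap.codRestrict _
      ((avg B).comp (spread.comp (centreSub B).subtype)) fun z => ⟨_, spread_class _, rfl⟩) ?_
    intro z z' h
    have h' : avg B (spread z.1) = avg B (spread z'.1) := congrArg Subtype.val h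
    refine Subtype.ext (sub_eq_zero.1 (avg_spread_injective B (sub_mem z.2 z'.2) ?_))
    rw [map_sub, map_sub, h', sub_self]
  rw [le_antisymm hge (Submodule.finrank_mono hle), hspan, finrank_span_eq_card hv,
    Nat.card_eq_fintype_card]

end Cfsg.Agent.Chevalley.Hecke
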