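import Cfsg.Agent.Chevalley.Hecke.Bruhat
import Cfsg.Agent.H37.Chev.All

/-!
The number of constituents of the principal series equals the number of classes of the Weyl group.
-/
set_option autoImplicit false

namespace Cfsg.Agent.Chevalley.Hecke

open Cfsg.Lie Cfsg.Agent.H37 Cfsg.Agent.H37.Weyl Finset Matrix Polynomial

/-- The structure constants of a finite group algebra. -/
theorem group_finrank {W : Type*} [Group W] [Fintype W] [DecidableEq W] :
    (formMat fun u v w : W => if u * v = w then (1 : ℂ) else 0).det ≠ 0 ∧
      Module.finrank ℂ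
          (LinearMap.ker (commMat fun u v w : W => if u * v = w then (1 : ℂ) else 0).mulVecLin)
        = Nat.card (ConjClasses W) := by
  constructor
  · intro hdet
    obtain ⟨a, ha, hGa⟩ := exists_mulVec_eq_zero_iff.2 hdet
    apply ha
    funext v
    have h1 : ∀ u w : W, formMat (fun u v w : W => if u * v = w then (1 : ℂ) else 0) u w
        = if u * w = 1 then (Fintype.card W : ℂ) else 0 := by
      intro u w
      simp only [formMat, Matrix.trace, Matrix.diag_apply, Matrix.mul_apply, lMat, ite_mul,
        one_mul, zero_mul]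
      rw [show (if u * w = 1 then (Fintype.card W : ℂ) else 0)
        = ∑ _x : W, if u * w = 1 then (1 : ℂ) else 0 by split_ifs <;> simp]
      refine sum_congr rfl fun x _ => ?_
      rw [Fintype.sum_eq_single (w * x) fun y hy => by
        by_cases h : u * y = x <;> simp [h, Ne.symm hy]]
      simp [← mul_assoc, mul_eq_right]
    have h2 := congrFun hGa v⁻¹
    simp only [Matrix.mulVec, dotProduct, h1, Pi.zero_apply, ite_mul, zero_mul,
      inv_mul_eq_one, sum_ite_eq, mem_univ, if_true, mul_eq_zero] at h2
    exact h2.resolve_left (by simp [Fintype.card_ne_zero])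
  · classical
    set φ : (ConjClasses W → ℂ) →ₗ[ℂ] (W → ℂ) := LinearMap.funLeft ℂ ℂ ConjClasses.mk
    have hinj : Function.Injective φ :=
      LinearMap.funLeft_injective_of_surjective ℂ ℂ _ ConjClasses.mk_surjective
    have hker : LinearMap.ker (commMat fun u v w : W => if u * v = w then (1 : ℂ) else 0).mulVecLin
        = LinearMap.range φ := by
      have hM : ∀ (f : W → ℂ) v w,
          (commMat (fun u v w : W => if u * v = w then (1 : ℂ) else 0) *ᵥ f) (v, w)
            = f (w * v⁻¹) - f (v⁻¹ * w) := by
        intro f v w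
        have e1 : ∀ u : W, (u * v = w) = (u = w * v⁻¹) := fun u => propext eq_mul_inv_iff_mul_eq.symm
        have e2 : ∀ u : W, (v * u = w) = (u = v⁻¹ * w) := fun u => propext eq_inv_mul_iff_mul_eq.symm
        simp only [Matrix.mulVec, dotProduct, commMat, sub_mul, sum_sub_distrib, ite_mul, one_mul,
          zero_mul, e1, e2, sum_ite_eq', mem_univ,
          if_true]
      ext f
      rw [LinearMap.mem_ker, Matrix.mulVecLin_apply, LinearMap.mem_range]
      constructor
      · intro h
        refine ⟨fun c => f c.out, funext fun g => ?_⟩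
        show f (ConjClasses.mk g).out = f g
        have hcl : ConjClasses.mk (ConjClasses.mk g).out = ConjClasses.mk g :=
          Quotient.out_eq (ConjClasses.mk g)
        obtain ⟨c, hc⟩ := isConj_iff.1 (ConjClasses.mk_eq_mk_iff_isConj.1 hcl)
        have := congrFun h (c, c * (ConjClasses.mk g).out)
        rw [hM, Pi.zero_apply, sub_eq_zero, hc, inv_mul_cancel_left] at this
        exact this.symm
      · rintro ⟨F, rfl⟩
        funext ⟨v, w⟩
        rw [hM, Pi.zero_apply, sub_eq_zero]
        exact congrArg F (ConjClasses.mk_eq_mk_iff_isConj.2 (isConj_iff.2 ⟨v⁻¹, by group⟩))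
    rw [hker, LinearMap.finrank_range_of_inj hinj, Module.finrank_pi, Nat.card_eq_fintype_card]

variable {n : ℕ} {M : CoxeterMatrix (Fin n)} {C : Weyl.Cert} {D : ChevalleyDatum}

/-- The count for a split Tits system over a finite field, given systems over all prime fields. -/
theorem card_eq {hC : Weyl.Good C D M} {G F : Type*} [Group G] [Finite G] [Field F] [Finite F]
    (S : RootSys.Sys hC G F)
    (hp : ∀ p : ℕ, p.Prime → ∃ (G' : Type) (_ : Group G') (_ : Finite G') (F' : Type)
      (_ : Field F') (_ : Finite F'), Nat.card F' = p ∧ Nonempty (RootSys.Sys hC G' F')) :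
    Nat.card {χ : Cfsg.IrrCharacter G // ∃ φ : G → ℂ, Cfsg.IsCharacter G φ ∧
        Cfsg.fixedPointCharacter S.ambient.B = (χ : G → ℂ) + φ}
      = Nat.card (ConjClasses M.Group) := by
  classical
  have := hC.finite
  let : Fintype M.Group := Fintype.ofFinite _
  let : Fintype G := Fintype.ofFinite _
  have hall : ∀ t, IsStruct (fun u v w => (heckePoly hC u v w).eval t) (1 : M.Group) := by
    refine isStruct_all (T := Set.range fun p : Nat.Primes => ((p : ℕ) : ℂ)) ?_ ?_
    · exact Set.infinite_range_of_injective fun p q h =>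
        Subtype.ext (Nat.cast_injective (R := ℂ) h)
    · rintro _ ⟨p, rfl⟩
      obtain ⟨G', hG', hfG', F', hF', hfF', hcard, ⟨S'⟩⟩ := hp p p.2
      let : Fintype G' := Fintype.ofFinite _
      have := isStruct S'
      rwa [coef_eq_poly, hcard] at this
  have h1 : (fun u v w : M.Group => (heckePoly hC u v w).eval 1)
      = fun u v w => if u * v = w then (1 : ℂ) else 0 := by
    funext u v w
    rw [heckePoly_eval, wordCoef_one hC (exists_red hC v).choose_spec]
  have h2 := rank_comm_eq hall (t₀ := (Nat.card F : ℂ)) (t₁ := 1)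
    (by rw [← coef_eq_poly S]; exact det_formMat_ne_zero S) (by rw [h1]; exact group_finrank.1)
  rw [h1, ← coef_eq_poly S] at h2
  rw [card_constituents, finrank_centre, ← group_finrank.2]
  have a := (commMat (coef S)).mulVecLin.finrank_range_add_finrank_ker
  have b := (commMat fun u v w : M.Group => if u * v = w then (1 : ℂ) else 0).mulVecLin
    |>.finrank_range_add_finrank_ker
  rw [Matrix.rank, Matrix.rank] at h2
  omega

/-- The count for a tabulated group. -/
theorem card_chev {F : Type*} [Field F] [Finite F] (Q : Chev.Data D F) (Qp : ∀ p : ℕ, p.Prime →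
      ∃ (F' : Type) (_ : Field F') (_ : Finite F'), Nat.card F' = p ∧
        Nonempty (RootSys.Sys Q.X.good ↥(D.group F') F')) :
    Nat.card {χ : Cfsg.IrrCharacter ↥(D.group F) // ∃ φ : ↥(D.group F) → ℂ,
        Cfsg.IsCharacter ↥(D.group F) φ ∧
        Cfsg.fixedPointCharacter ((D.borelSubgroup F).subgroupOf (D.group F))
          = (χ : ↥(D.group F) → ℂ) + φ}
      = Nat.card (ConjClasses Q.X.M.Group) := by
  rw [← Q.amb_B]
  refine card_eq Q.sys fun p hp => ?_
  obtain ⟨F', h1, h2, h3, h4⟩ := Qp p hp
  exact ⟨_, inferInstance, inferInstance, F', h1, h2, h3, h4⟩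

/-- The count from a family of data over all fields. -/
theorem card_chev_of {F : Type*} [Field F] [Finite F] (Q : Chev.Data D F)
    (mk : ∀ (F' : Type) [Field F'], RootSys.Sys Q.X.good ↥(D.group F') F') :
    Nat.card {χ : Cfsg.IrrCharacter ↥(D.group F) // ∃ φ : ↥(D.group F) → ℂ,
        Cfsg.IsCharacter ↥(D.group F) φ ∧
        Cfsg.fixedPointCharacter ((D.borelSubgroup F).subgroupOf (D.group F))
          = (χ : ↥(D.group F) → ℂ) + φ}
      = Nat.card (ConjClasses Q.X.M.Group) :=
  card_chev Q fun p hp => by
    have := Fact.mk hp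
    exact ⟨ZMod p, inferInstance, inferInstance, by simp, ⟨mk (ZMod p)⟩⟩

end Cfsg.Agent.Chevalley.Hecke
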